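import Cfsg.Agent.EqLemmas
import Cfsg.Agent.Lib.Chev.DataG2
import Cfsg.Agent.Lib.ChevBN.RootTables
import Cfsg.Agent.Lib.ChevFixed.Basic

/-!
# `SL₃` inside the Chevalley group of type `G₂`

The representation `sl₃ ⊕ V ⊕ V*` of `SL₃` in the coordinates of `chevG2`: `phi`, with `phi_diag`, `phi_map`,
`phi_injective` and `phi_mem_group`.
-/

set_option autoImplicit false

namespace Cfsg.Agent.ChevG2SL3

open Cfsg.Lie Cfsg.Lie.ChevalleyDatum Cfsg.Agent.Chev Cfsg.Agent.ChevBN Cfsg.Agent.ChevOrder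
open scoped Matrix MatrixGroups

/-- Case distinction on the coordinates. -/
theorem idx_cases {P : chevG2.Idx → Prop} (hl0 : P (.inl (0 : Fin 2))) (hl1 : P (.inl (1 : Fin 2)))
    (h0 : P (.inr (0 : Fin 12))) (h1 : P (.inr (1 : Fin 12))) (h2 : P (.inr (2 : Fin 12))) (h3 : P (.inr (3 : Fin 12))) (h4 : P (.inr (4 : Fin 12))) (h5 : P (.inr (5 : Fin 12)))
    (h6 : P (.inr (6 : Fin 12))) (h7 : P (.inr (7 : Fin 12))) (h8 : P (.inr (8 : Fin 12))) (h9 : P (.inr (9 : Fin 12))) (h10 : P (.inr (10 : Fin 12))) (h11 : P (.inr (11 : Fin 12))) :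
    ∀ a, P a := by
  rintro (⟨_ | _ | i, hi⟩ | ⟨_ | _ | _ | _ | _ | _ | _ | _ | _ | _ | _ | _ | i, hi⟩)
  · exact hl0
  · exact hl1
  · exact absurd (show i + 2 < 2 from hi) (by omega)
  · exact h0
  · exact h1
  · exact h2
  · exact h3
  · exact h4
  · exact h5
  · exact h6
  · exact h7
  · exact h8
  · exact h9
  · exact h10
  · exact h11
  · exact absurd (show i + 12 < 12 from hi) (by omega)

variable (R : Type*) [CommRing R]

/-- A coordinate vector from its two parts. -/
def mk14 {α : Type*} (f : Fin 2 → α) (g : Fin 12 → α) : chevG2.Idx → α := Sum.elim f g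

@[simp] theorem mk14_inl {α : Type*} (f : Fin 2 → α) (g : Fin 12 → α) (i : Fin 2) :
    mk14 f g (.inl i) = f i := rfl

@[simp] theorem mk14_inr {α : Type*} (f : Fin 2 → α) (g : Fin 12 → α) (i : Fin 12) :
    mk14 f g (.inr i) = g i := rfl

/-- Triples `(X, v, w)`. -/
abbrev Trip := Matrix (Fin 3) (Fin 3) R × (Fin 3 → R) × (Fin 3 → R)

/-- The coordinates of a triple. -/
def coordsL : Trip R →ₗ[R] (chevG2.Idx → R) where
  toFun p := mk14 ![-(p.1 2 2), -(p.1 0 0) - 2 * p.1 2 2]
    ![p.1 2 1, p.1 2 0, p.2.1 2, p.2.2 1, p.2.2 0, p.1 0 1, p.1 1 0, p.2.1 0, p.2.1 1, p.2.2 2,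
      p.1 0 2, p.1 1 2]
  map_add' p p' := by
    apply funext
    apply idx_cases <;> simp <;> ring
  map_smul' c p := by
    apply funext
    apply idx_cases <;> simp <;> ring

/-- The triple of a coordinate vector. -/
def decodeL : (chevG2.Idx → R) →ₗ[R] Trip R where
  toFun v :=
    (!![2 * v (.inl (0 : Fin 2)) - v (.inl (1 : Fin 2)), v (.inr (5 : Fin 12)), v (.inr (10 : Fin 12));
        v (.inr (6 : Fin 12)), -v (.inl (0 : Fin 2)) + v (.inl (1 : Fin 2)), v (.inr (11 : Fin 12));
        v (.inr (1 : Fin 12)), v (.inr (0 : Fin 12)), -v (.inl (0 : Fin 2))],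
     ![v (.inr (7 : Fin 12)), v (.inr (8 : Fin 12)), v (.inr (2 : Fin 12))],
     ![v (.inr (4 : Fin 12)), v (.inr (3 : Fin 12)), v (.inr (9 : Fin 12))])
  map_add' v v' := by
    refine Prod.ext ?_ (Prod.ext ?_ ?_)
    · ext i j; fin_cases i <;> fin_cases j <;> simp <;> ring
    · ext i; fin_cases i <;> simp
    · ext i; fin_cases i <;> simp
  map_smul' c v := by
    refine Prod.ext ?_ (Prod.ext ?_ ?_)
    · ext i j; fin_cases i <;> fin_cases j <;> simp <;> ring
    · ext i; fin_cases i <;> simp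
    · ext i; fin_cases i <;> simp

variable {R}

theorem decode_coords {p : Trip R} (hp : p.1.trace = 0) : decodeL R (coordsL R p) = p := by
  obtain ⟨X, v, w⟩ := p
  rw [Matrix.trace_fin_three] at hp
  simp only at hp
  refine Prod.ext ?_ (Prod.ext ?_ ?_)
  · ext i j; fin_cases i <;> fin_cases j <;> simp [coordsL, decodeL] <;>
      first | ring1 | linear_combination hp | linear_combination -hp
  · ext i; fin_cases i <;> simp [coordsL, decodeL]
  · ext i; fin_cases i <;> simp [coordsL, decodeL]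

theorem coords_decode (v : chevG2.Idx → R) : coordsL R (decodeL R v) = v := by
  apply funext
  apply idx_cases <;> simp [coordsL, decodeL] <;> ring

theorem trace_decode (v : chevG2.Idx → R) : (decodeL R v).1.trace = 0 := by
  simp [decodeL, Matrix.trace_fin_three]; ring

/-- `(X, v, w) ↦ (A X B, A v, Bᵀ w)`. -/
def actL (A B : Matrix (Fin 3) (Fin 3) R) : Trip R →ₗ[R] Trip R where
  toFun p := (A * p.1 * B, A *ᵥ p.2.1, Bᵀ *ᵥ p.2.2)
  map_add' p p' := by simp [mul_add, add_mul, Matrix.mulVec_add]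
  map_smul' c p := by simp [Matrix.mulVec_smul]

/-- The action on coordinates. -/
def opL (A B : Matrix (Fin 3) (Fin 3) R) : (chevG2.Idx → R) →ₗ[R] (chevG2.Idx → R) :=
  coordsL R ∘ₗ actL A B ∘ₗ decodeL R

/-- Its matrix. -/
def phiMat (A B : Matrix (Fin 3) (Fin 3) R) : Matrix chevG2.Idx chevG2.Idx R :=
  LinearMap.toMatrix' (opL A B)

theorem phiMat_mulVec (A B : Matrix (Fin 3) (Fin 3) R) (v : chevG2.Idx → R) :
    phiMat A B *ᵥ v = opL A B v := LinearMap.toMatrix'_mulVec _ _

theorem opL_one : opL (1 : Matrix (Fin 3) (Fin 3) R) 1 = LinearMap.id := by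
  refine LinearMap.ext fun v => ?_
  simp [opL, actL, coords_decode]

theorem opL_mul {A B A' B' : Matrix (Fin 3) (Fin 3) R} (h : B' * A' = 1) :
    opL (A * A') (B' * B) = opL A B ∘ₗ opL A' B' := by
  refine LinearMap.ext fun v => ?_
  have ht : (actL A' B' (decodeL R v)).1.trace = 0 := by
    show (A' * (decodeL R v).1 * B').trace = 0
    rw [Matrix.trace_mul_comm, ← Matrix.mul_assoc, h, Matrix.one_mul, trace_decode]
  simp only [opL, LinearMap.comp_apply, decode_coords ht]
  congr 1
  simp [actL, Matrix.mul_assoc, Matrix.mulVec_mulVec, Matrix.transpose_mul]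

/-- `SL₃ → GL₁₄`. -/
def phi (R : Type*) [CommRing R] : SL(3, R) →* GL chevG2.Idx R :=
  MonoidHom.toHomUnits
    { toFun := fun g => phiMat (g : Matrix (Fin 3) (Fin 3) R) ((g⁻¹ : SL(3, R)) : Matrix (Fin 3) (Fin 3) R)
      map_one' := by
        simp only [inv_one, Matrix.SpecialLinearGroup.coe_one, phiMat, opL_one, LinearMap.toMatrix'_id]
      map_mul' := fun g h => by
        rw [mul_inv_rev, Matrix.SpecialLinearGroup.coe_mul, Matrix.SpecialLinearGroup.coe_mul, phiMat,
          opL_mul (by rw [← Matrix.SpecialLinearGroup.coe_mul, inv_mul_cancel,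
            Matrix.SpecialLinearGroup.coe_one]), LinearMap.toMatrix'_comp]
        rfl }

theorem coe_phi (g : SL(3, R)) : (phi R g : Matrix chevG2.Idx chevG2.Idx R) =
    phiMat (g : Matrix (Fin 3) (Fin 3) R) ((g⁻¹ : SL(3, R)) : Matrix (Fin 3) (Fin 3) R) := rfl

theorem coe_phi' (g : SL(3, R)) {B : Matrix (Fin 3) (Fin 3) R}
    (hB : (g : Matrix (Fin 3) (Fin 3) R) * B = 1) :
    (phi R g : Matrix chevG2.Idx chevG2.Idx R) = phiMat (g : Matrix (Fin 3) (Fin 3) R) B := by
  rw [coe_phi]
  congr 1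
  calc ((g⁻¹ : SL(3, R)) : Matrix (Fin 3) (Fin 3) R)
      = ((g⁻¹ : SL(3, R)) : Matrix (Fin 3) (Fin 3) R) * ((g : Matrix (Fin 3) (Fin 3) R) * B) := by
        rw [hB, Matrix.mul_one]
    _ = B := by
        rw [← Matrix.mul_assoc, ← Matrix.SpecialLinearGroup.coe_mul, inv_mul_cancel,
          Matrix.SpecialLinearGroup.coe_one, Matrix.one_mul]

/-- The characters of `diag (a, b, c)`. -/
def dvec (a b c a' b' c' : R) : chevG2.Idx → R :=
  mk14 ![1, 1] ![c * b', c * a', c, b', a', a * b', b * a', a, b, c', a * c', b * c']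

theorem phiMat_diag {a b c a' b' c' : R} (ha : a * a' = 1) (_hb : b * b' = 1) (hc : c * c' = 1) :
    phiMat (Matrix.diagonal ![a, b, c]) (Matrix.diagonal ![a', b', c']) =
      Matrix.diagonal (dvec a b c a' b' c') := by
  refine Matrix.toLin'.injective (LinearMap.ext fun v => ?_)
  rw [Matrix.toLin'_apply, Matrix.toLin'_apply, phiMat_mulVec]
  apply funext
  apply idx_cases <;>
    simp [opL, actL, coordsL, decodeL, dvec, Matrix.diagonal_mul, Matrix.mul_diagonal,
      Matrix.mulVec_diagonal] <;> try ring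
  · linear_combination v (.inl (0 : Fin 2)) * hc
  · linear_combination (-2 * v (.inl (0 : Fin 2)) + v (.inl (1 : Fin 2))) * ha +
      2 * v (.inl (0 : Fin 2)) * hc

/-! ### Naturality -/

section Natural

variable {S : Type*} [CommRing S] (f : R →+* S)

/-- The map on triples. -/
def mapT (p : Trip R) : Trip S := (p.1.map f, f ∘ p.2.1, f ∘ p.2.2)

theorem coords_mapT (p : Trip R) : coordsL S (mapT f p) = f ∘ coordsL R p := by
  apply funext
  apply idx_cases <;> simp [coordsL, mapT, map_ofNat]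

theorem decode_comp (v : chevG2.Idx → R) : decodeL S (f ∘ v) = mapT f (decodeL R v) := by
  refine Prod.ext ?_ (Prod.ext ?_ ?_)
  · ext i j; fin_cases i <;> fin_cases j <;> simp [decodeL, mapT, map_ofNat]
  · ext i; fin_cases i <;> simp [decodeL, mapT]
  · ext i; fin_cases i <;> simp [decodeL, mapT]

/-- A natural operation on triples has a natural matrix. -/
theorem toMatrix_natural (P : Trip R →ₗ[R] Trip R) (Q : Trip S →ₗ[S] Trip S)
    (h : ∀ p, Q (mapT f p) = mapT f (P p)) :
    (LinearMap.toMatrix' (coordsL R ∘ₗ P ∘ₗ decodeL R)).map f =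
      LinearMap.toMatrix' (coordsL S ∘ₗ Q ∘ₗ decodeL S) := by
  ext a b
  have e : (Pi.single b 1 : chevG2.Idx → S) = f ∘ Pi.single b 1 := by
    ext c; simp [Pi.single_apply]
  simp only [Matrix.map_apply, LinearMap.toMatrix'_apply, LinearMap.comp_apply, e, decode_comp, h,
    coords_mapT, Function.comp_apply]

theorem phiMat_map (A B : Matrix (Fin 3) (Fin 3) R) :
    (phiMat A B).map f = phiMat (A.map f) (B.map f) := by
  refine toMatrix_natural f _ _ fun p => ?_
  refine Prod.ext ?_ (Prod.ext ?_ ?_)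
  · simp [actL, mapT, Matrix.map_mul]
  · ext i; simp [actL, mapT, RingHom.map_mulVec]
  · ext i; simp [actL, mapT, RingHom.map_mulVec, Matrix.transpose_map]

end Natural

/-! ### Transvections -/

/-- The first order term of a transvection. -/
def der1 (E : Matrix (Fin 3) (Fin 3) R) : Trip R →ₗ[R] Trip R where
  toFun p := (E * p.1 - p.1 * E, E *ᵥ p.2.1, -(Eᵀ *ᵥ p.2.2))
  map_add' p p' := by
    refine Prod.ext ?_ (Prod.ext ?_ ?_)
    · simp [mul_add, add_mul]; abel
    · simp [Matrix.mulVec_add]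
    · simp [Matrix.mulVec_add]; abel
  map_smul' c p := by
    simp [Matrix.mulVec_smul, smul_sub]

/-- The second order term of a transvection. -/
def der2 (E : Matrix (Fin 3) (Fin 3) R) : Trip R →ₗ[R] Trip R where
  toFun p := (-(E * p.1 * E), 0, 0)
  map_add' p p' := by simp [mul_add, add_mul, add_comm]
  map_smul' c p := by simp

/-- The matrix of an operation on triples. -/
def opMat (P : Trip R →ₗ[R] Trip R) : Matrix chevG2.Idx chevG2.Idx R :=
  LinearMap.toMatrix' (coordsL R ∘ₗ P ∘ₗ decodeL R)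

theorem phiMat_expand (E : Matrix (Fin 3) (Fin 3) R) (t : R) :
    phiMat (1 + t • E) (1 - t • E) = 1 + t • opMat (der1 E) + t ^ 2 • opMat (der2 E) := by
  rw [show (1 : Matrix chevG2.Idx chevG2.Idx R) = LinearMap.toMatrix' LinearMap.id from
    LinearMap.toMatrix'_id.symm]
  simp only [phiMat, opMat, ← map_smul, ← map_add]
  congr 1
  refine LinearMap.ext fun v => ?_
  have e : actL (1 + t • E) (1 - t • E) (decodeL R v) =
      decodeL R v + t • der1 E (decodeL R v) + t ^ 2 • der2 E (decodeL R v) := by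
    refine Prod.ext ?_ (Prod.ext ?_ ?_)
    · simp [actL, der1, der2, Matrix.add_mul, Matrix.mul_sub, smul_smul, pow_two]
      module
    · simp [actL, der1, der2, Matrix.add_mulVec, Matrix.smul_mulVec]
    · simp [actL, der1, der2, Matrix.transpose_sub, Matrix.sub_mulVec, Matrix.smul_mulVec]
      rw [sub_eq_add_neg]
  simp only [opL, LinearMap.comp_apply, e, map_add, map_smul, coords_decode, LinearMap.add_apply,
    LinearMap.smul_apply, LinearMap.id_apply]

/-- The coefficient matrices of a root element whose chains have length one. -/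
def xc (r k : ℕ) : Matrix chevG2.Idx chevG2.Idx ℤ :=
  Matrix.of fun row col =>
    match col with
    | Sum.inl i =>
      (match row with
       | Sum.inl _ => 0
       | Sum.inr u => if u.val = r ∧ k = 1 then -chevG2.cartan i.val r else 0)
    | Sum.inr s =>
      if s.val = r then 0
      else if s.val = chevG2.neg r then
        (match row with
         | Sum.inl i => if k = 1 then (chevG2.coroot.getD r #[]).getD i.val 0 else 0
         | Sum.inr u => if u.val = r ∧ k = 2 then -1 else 0)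
      else
        (match row with
         | Sum.inl _ => 0
         | Sum.inr u => if k = 1 then ((chevG2.chainCoeff r s.val u.val).map Prod.snd).sum else 0)

theorem sum_chain {L : List (ℕ × ℤ)} (h : ∀ km ∈ L, km.1 = 1) (t : R) :
    (L.map fun km => (km.2 : R) * t ^ km.1).sum = t * ((L.map Prod.snd).sum : ℤ) := by
  induction L with
  | nil => simp
  | cons a L ih =>
    rw [List.map_cons, List.sum_cons, ih fun km hkm => h km (List.mem_cons_of_mem _ hkm),
      List.map_cons, List.sum_cons, h a List.mem_cons_self, Int.cast_add]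
    ring

theorem xR_expand (r : ℕ) (hr : r < 12)
    (h : ∀ s < 12, ∀ u < 12, ∀ km ∈ chevG2.chainCoeff r s u, km.1 = 1) (t : R) :
    xR chevG2 R r t = 1 + t • (xc r 1).map (Int.castRingHom R) + t ^ 2 • (xc r 2).map (Int.castRingHom R) := by
  have hne : chevG2.neg r ≠ r := Chev.DataG2.good.neg_ne r hr
  ext row col
  rcases row with i | u <;> rcases col with j | s
  · simp [xR, xc, Matrix.one_apply]
  · simp only [xR, xc, Matrix.add_apply, Matrix.smul_apply, Matrix.map_apply, Matrix.of_apply,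
      Matrix.one_apply, smul_eq_mul, reduceCtorEq, if_false]
    by_cases h1 : s.val = r
    · simp [h1]
    by_cases h2 : s.val = chevG2.neg r
    · simp [h1, h2, hne, mul_comm]
    · simp [h1, h2]
  · simp only [xR, xc, Matrix.add_apply, Matrix.smul_apply, Matrix.map_apply, Matrix.of_apply,
      Matrix.one_apply, smul_eq_mul, reduceCtorEq, if_false]
    by_cases h1 : u.val = r
    · simp [h1, mul_comm]
    · simp [h1]
  · simp only [xR, xc, Matrix.add_apply, Matrix.smul_apply, Matrix.map_apply, Matrix.of_apply,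
      Matrix.one_apply, smul_eq_mul, Sum.inr.injEq]
    by_cases h1 : s.val = r
    · by_cases h3 : u = s
      · simp [h1, h3]
      · have : u.val ≠ r := fun e => h3 (Fin.ext (e.trans h1.symm))
        simp [h1, h3, this]
    by_cases h2 : s.val = chevG2.neg r
    · by_cases h3 : u = s
      · subst h3; simp [h1, h2, hne]
      · by_cases h4 : u.val = r <;> simp [h1, h2, h3, h4, hne]
    · rw [if_neg h1, if_neg h2, if_neg h1, if_neg h2, sum_chain (h _ s.isLt _ u.isLt)]
      simp [h1, h2]

/-- The root attached to a pair of indices. -/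
def rootOf (i j : Fin 3) : ℕ := (![![0, 5, 10], ![6, 0, 11], ![1, 0, 0]] i) j

theorem tables_lt : ∀ i j : Fin 3, i ≠ j → rootOf i j < 12 := by decide +kernel

theorem tables_chain : ∀ i j : Fin 3, i ≠ j →
    ∀ s < 12, ∀ u < 12, ∀ km ∈ chevG2.chainCoeff (rootOf i j) s u, km.1 = 1 := by decide +kernel

theorem tables_der1 : ∀ i j : Fin 3, i ≠ j →
    opMat (der1 (Matrix.single i j (1 : ℤ))) = xc (rootOf i j) 1 := by decide +kernel

theorem tables_der2 : ∀ i j : Fin 3, i ≠ j →
    opMat (der2 (Matrix.single i j (1 : ℤ))) = xc (rootOf i j) 2 := by decide +kernel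

theorem phiMat_transvection {i j : Fin 3} (hij : i ≠ j) (t : R) :
    phiMat (Matrix.transvection i j t) (Matrix.transvection i j (-t)) = xR chevG2 R (rootOf i j) t := by
  have hr := tables_lt i j hij
  have hc := tables_chain i j hij
  have h1 := tables_der1 i j hij
  have h2 := tables_der2 i j hij
  have e1 : Matrix.transvection i j t = 1 + t • Matrix.single i j (1 : R) := by
    rw [Matrix.transvection, Matrix.smul_single, smul_eq_mul, mul_one]
  have e2 : Matrix.transvection i j (-t) = 1 - t • Matrix.single i j (1 : R) := by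
    rw [Matrix.transvection, Matrix.smul_single, smul_eq_mul, mul_one, sub_eq_add_neg, Matrix.single_neg]
  have hE : (Matrix.single i j (1 : ℤ)).map (Int.castRingHom R) = Matrix.single i j (1 : R) := by
    ext a b; simp [Matrix.single_apply]
  have n1 : opMat (der1 (Matrix.single i j (1 : R))) = (xc (rootOf i j) 1).map (Int.castRingHom R) := by
    rw [← h1, opMat,
      opMat, toMatrix_natural (Int.castRingHom R) _ (der1 (Matrix.single i j (1 : R))) fun p => ?_]
    refine Prod.ext ?_ (Prod.ext ?_ ?_)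
    · show _ = (_ - _ : Matrix (Fin 3) (Fin 3) ℤ).map _
      rw [Matrix.map_sub _ (map_sub _), Matrix.map_mul, Matrix.map_mul, hE]
      rfl
    · funext a
      simp only [der1, mapT, LinearMap.coe_mk, AddHom.coe_mk, Function.comp_apply]
      rw [RingHom.map_mulVec, hE]
    · funext a
      simp only [der1, mapT, LinearMap.coe_mk, AddHom.coe_mk, Function.comp_apply, Pi.neg_apply]
      rw [map_neg, RingHom.map_mulVec, Matrix.transpose_map, hE]
  have n2 : opMat (der2 (Matrix.single i j (1 : R))) = (xc (rootOf i j) 2).map (Int.castRingHom R) := by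
    rw [← h2, opMat,
      opMat, toMatrix_natural (Int.castRingHom R) _ (der2 (Matrix.single i j (1 : R))) fun p => ?_]
    refine Prod.ext ?_ (Prod.ext ?_ ?_)
    · show _ = (-_ : Matrix (Fin 3) (Fin 3) ℤ).map _
      rw [Matrix.map_neg _ (map_neg _), Matrix.map_mul, Matrix.map_mul, hE]
      rfl
    · ext a; simp [der2, mapT]
    · ext a; simp [der2, mapT]
  rw [e1, e2, phiMat_expand, xR_expand _ hr hc, n1, n2]

/-! ### Over a field -/

theorem phi_injective : Function.Injective (phi R) := by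
  intro g h e
  have key : ∀ u : Fin 3 → R, (g : Matrix (Fin 3) (Fin 3) R) *ᵥ u = (h : Matrix (Fin 3) (Fin 3) R) *ᵥ u := by
    intro u
    have e1 := congrArg (fun x : GL chevG2.Idx R => decodeL R
      ((x : Matrix chevG2.Idx chevG2.Idx R) *ᵥ coordsL R ((0, u, 0) : Trip R))) e
    have t0 : ((0, u, 0) : Trip R).1.trace = 0 := Matrix.trace_zero _ _
    simp only [coe_phi, phiMat_mulVec, opL, LinearMap.comp_apply, decode_coords t0] at e1
    rw [decode_coords (by show (_ * (0 : Matrix (Fin 3) (Fin 3) R) * _).trace = 0; simp),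
      decode_coords (by show (_ * (0 : Matrix (Fin 3) (Fin 3) R) * _).trace = 0; simp)] at e1
    exact congrArg (fun p : Trip R => p.2.1) e1
  exact Subtype.ext (Matrix.toLin'.injective (LinearMap.ext key))

variable {F : Type*} [Field F] {K : Type*} [Field K]

theorem phi_map (f : K →+* F) (g : SL(3, K)) :
    ChevFixed.mapG chevG2 f (phi K g) = phi F (Matrix.SpecialLinearGroup.map f g) := by
  apply Units.ext
  rw [ChevFixed.coe_mapG, coe_phi, coe_phi, phiMat_map, ← map_inv]
  rfl

/-- A diagonal element of `SL₃`. -/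
def diagSL (a b : Fˣ) : SL(3, F) :=
  ⟨Matrix.diagonal ![(a : F), (b : F), ((a * b)⁻¹ : Fˣ)], by
    simp [Matrix.det_diagonal, Fin.prod_univ_three]; field_simp⟩

theorem coe_diagSL (a b : Fˣ) : (diagSL a b : Matrix (Fin 3) (Fin 3) F) =
    Matrix.diagonal ![(a : F), (b : F), ((a * b)⁻¹ : Fˣ)] := rfl

theorem chi_G2 (c : Fin 2 → Fˣ) (s : ℕ) : chi (D := chevG2) c s =
    c 0 ^ chevG2.cartan 0 s * c 1 ^ chevG2.cartan 1 s :=
  Fin.prod_univ_two fun i : Fin 2 => c i ^ chevG2.cartan i.val s

theorem cartan_table : (List.range 12).map (fun s => (chevG2.cartan 0 s, chevG2.cartan 1 s)) =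
    [(0, -1), (-3, 1), (-1, 0), (1, -1), (-2, 1), (3, -2), (-3, 2), (2, -1), (-1, 1), (1, 0), (3, -1), (0, 1)] := by
  decide +kernel

theorem phi_diag (a b : Fˣ) : phi F (diagSL a b) = torusHom chevG2 F ![a * b, a * b * b] := by
  apply Units.ext
  rw [coe_phi' (diagSL a b)
    (B := Matrix.diagonal ![((a⁻¹ : Fˣ) : F), ((b⁻¹ : Fˣ) : F), ((a * b : Fˣ) : F)]), coe_diagSL,
    phiMat_diag (by simp) (by simp) (by simp [mul_comm]; field_simp)]
  · show _ = Matrix.diagonal (Sum.elim (fun _ => (1 : F))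
      fun s : Fin chevG2.nroots => ((chi (D := chevG2) ![a * b, a * b * b] s.val : Fˣ) : F))
    congr 1
    have h := cartan_table
    simp only [List.range_succ, List.range_zero, List.nil_append, List.map_cons,
      List.map_nil, List.cons_append, List.cons.injEq, Prod.mk.injEq, and_true] at h
    obtain ⟨⟨a0, b0⟩, ⟨a1, b1⟩, ⟨a2, b2⟩, ⟨a3, b3⟩, ⟨a4, b4⟩, ⟨a5, b5⟩, ⟨a6, b6⟩, ⟨a7, b7⟩, ⟨a8, b8⟩,
      ⟨a9, b9⟩, ⟨a10, b10⟩, a11, b11⟩ := h
    apply funext
    apply idx_cases
    all_goals first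
      | rfl
      | (show _ = ((chi (D := chevG2) ![a * b, a * b * b] _ : Fˣ) : F)
         rw [chi_G2]
         simp [dvec, a0, b0, a1, b1, a2, b2, a3, b3, a4, b4, a5, b5, a6, b6, a7, b7, a8, b8, a9, b9,
           a10, b10, a11, b11, zpow_neg, zpow_ofNat] <;> field_simp)
  · rw [coe_diagSL, Matrix.diagonal_mul_diagonal, ← Matrix.diagonal_one]
    congr 1
    ext i; fin_cases i <;> simp [mul_comm]
    field_simp

theorem diagSL_of_torus (c : Fin 2 → Fˣ) :
    torusHom chevG2 F c = phi F (diagSL (c 0 ^ 2 * (c 1)⁻¹) ((c 0)⁻¹ * c 1)) := by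
  rw [phi_diag]
  congr 1
  have e : c 0 ^ 2 * (c 1)⁻¹ * ((c 0)⁻¹ * c 1) = c 0 := by
    rw [mul_comm (c 0)⁻¹, ← mul_assoc, inv_mul_cancel_right, pow_two, mul_inv_cancel_right]
  refine funext fun i => ?_
  fin_cases i
  · exact e.symm
  · show c 1 = c 0 ^ 2 * (c 1)⁻¹ * ((c 0)⁻¹ * c 1) * ((c 0)⁻¹ * c 1)
    rw [e, mul_inv_cancel_left]

theorem phi_transvection {i j : Fin 3} (hij : i ≠ j) (t : F) (g : SL(3, F))
    (hg : (g : Matrix (Fin 3) (Fin 3) F) = Matrix.transvection i j t) :
    phi F g = xg Chev.DataG2.good F (rootOf i j) t := by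
  apply Units.ext
  rw [coe_xg, x_eq_xR chevG2 (tables_lt i j hij), coe_phi' g (B := Matrix.transvection i j (-t)), hg,
    phiMat_transvection hij]
  rw [hg, Matrix.transvection_mul_transvection_same _ _ hij, add_neg_cancel, Matrix.transvection_zero]

theorem phi_mem_group (g : SL(3, F)) : phi F g ∈ chevG2.group F := by
  let P : Matrix (Fin 3) (Fin 3) F → Prop := fun M => ∃ h : M.det = 1, phi F ⟨M, h⟩ ∈ chevG2.group F
  suffices H : P (g : Matrix (Fin 3) (Fin 3) F) by
    obtain ⟨_, h⟩ := H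
    exact h
  refine Matrix.diagonal_transvection_induction P (g : Matrix (Fin 3) (Fin 3) F) ?_ ?_ ?_
  · intro d hd
    rw [g.2] at hd
    have h3 : d 0 * d 1 * d 2 = 1 := by
      rwa [Matrix.det_diagonal, Fin.prod_univ_three] at hd
    have h0 : d 0 ≠ 0 := fun e => by simp [e] at h3
    have h1 : d 1 ≠ 0 := fun e => by simp [e] at h3
    refine ⟨hd, ?_⟩
    have e : (⟨Matrix.diagonal d, hd⟩ : SL(3, F)) = diagSL (Units.mk0 _ h0) (Units.mk0 _ h1) := by
      refine Subtype.ext ?_
      show Matrix.diagonal d = Matrix.diagonal _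
      congr 1
      ext i; fin_cases i <;> simp
      field_simp
      linear_combination h3
    rw [e, phi_diag]
    exact borel_le_group Chev.DataG2.good rootsG2
      (Subgroup.mem_sup_right ((torusHom_range Chev.DataG2.good).le ⟨_, rfl⟩))
  · intro t
    refine ⟨t.det, ?_⟩
    rw [phi_transvection t.hij t.c ⟨t.toMatrix, t.det⟩ rfl]
    exact xg_mem_group _ _ _
  · rintro A B ⟨hA, hA'⟩ ⟨hB, hB'⟩
    refine ⟨by rw [Matrix.det_mul, hA, hB, mul_one], ?_⟩
    let a : SL(3, F) := ⟨A, hA⟩
    let b : SL(3, F) := ⟨B, hB⟩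
    rw [show (⟨A * B, _⟩ : SL(3, F)) = a * b from Subtype.ext rfl, map_mul]
    exact mul_mem hA' hB'

end Cfsg.Agent.ChevG2SL3
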