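import Cfsg.Agent.EqLemmas
import Cfsg.Agent.Lib.ChevG2SL3.Rep
import Cfsg.Agent.Lib.ChevTorus.Regular
import Mathlib.FieldTheory.Finite.Extension

/-!
# The torus of order `q² + q + 1` of `G₂(q)`

`exists_torus`: a cyclic subgroup of order `q² + q + 1` that is its own centraliser, from the elements of
norm one of the cubic extension.
-/

set_option autoImplicit false

namespace Cfsg.Agent.ChevG2SL3

open Cfsg.Lie Cfsg.Lie.ChevalleyDatum Cfsg.Agent.Chev Cfsg.Agent.ChevBN Cfsg.Agent.ChevOrder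
  Cfsg.Agent.ChevFixed
open scoped Matrix MatrixGroups

/-- The exponents of the twelve roots, as (linear part, constant part). -/
def expo : Fin 12 → ℤ × ℤ :=
  ![(-2, -1), (-1, -2), (-1, -1), (-1, 0), (0, -1), (-1, 1), (1, -1), (0, 1), (1, 0), (1, 1), (1, 2), (2, 1)]

theorem expo_bound : ∀ i, |(expo i).1| ≤ 2 ∧ |(expo i).2| ≤ 2 := by decide +kernel

theorem expo_three : ∀ i j, ((expo i).1 * 3 + (expo i).2) % 13 ≠ 0 ∧
    (((expo i).1 * 3 + (expo i).2) % 13 = ((expo j).1 * 3 + (expo j).2) % 13 → i = j) := by decide +kernel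

theorem expo_inj : ∀ i j, expo i = expo j → i = j := by decide +kernel

theorem expo_ne : ∀ i, expo i ≠ 0 := by decide +kernel

theorem expo_diff : ∀ i j : Fin 12, (expo i).2 - (expo j).2 = 4 → (expo i).1 - (expo j).1 ≠ -1 := by
  decide +kernel

/-- The exponents are distinct and non-zero modulo `q² + q + 1`. -/
theorem expo_mod {q : ℤ} (hq : 3 ≤ q) (i j : Fin 12) :
    ¬ (q ^ 2 + q + 1 ∣ (expo i).1 * q + (expo i).2) ∧
      (q ^ 2 + q + 1 ∣ ((expo i).1 * q + (expo i).2) - ((expo j).1 * q + (expo j).2) → i = j) := by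
  rcases eq_or_lt_of_le hq with rfl | hq4
  · obtain ⟨h1, h2⟩ := expo_three i j
    refine ⟨fun h => h1 ?_, fun h => h2 ?_⟩ <;> norm_num at h ⊢ <;> omega
  have hN : 4 * q + 4 < q ^ 2 + q + 1 := by nlinarith
  have key : ∀ u v : ℤ, |u| ≤ 4 → |v| ≤ 4 → q ^ 2 + q + 1 ∣ u * q + v →
      (u = 0 ∧ v = 0) ∨ (u = -1 ∧ v = 4) ∨ (u = 1 ∧ v = -4) := by
    intro u v hu hv h
    rw [abs_le] at hu hv
    have e : u * q + v = 0 := by
      refine Int.eq_zero_of_abs_lt_dvd h (abs_lt.2 ⟨?_, ?_⟩) <;> nlinarith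
    obtain ⟨h1, h2⟩ := hu
    interval_cases u <;> omega
  obtain ⟨b1, b2⟩ := expo_bound i
  obtain ⟨b3, b4⟩ := expo_bound j
  rw [abs_le] at b1 b2 b3 b4
  refine ⟨fun h => ?_, fun h => ?_⟩
  · rcases key _ _ (abs_le.2 ⟨by omega, by omega⟩) (abs_le.2 ⟨by omega, by omega⟩) h with h | h | h
    · exact expo_ne i (Prod.ext h.1 h.2)
    · omega
    · omega
  · rcases key ((expo i).1 - (expo j).1) ((expo i).2 - (expo j).2) (abs_le.2 ⟨by omega, by omega⟩)
      (abs_le.2 ⟨by omega, by omega⟩) (by convert h using 1; ring) with h | h | h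
    · exact expo_inj i j (Prod.ext (by omega) (by omega))
    · exact absurd h.1 (expo_diff i j h.2)
    · exact absurd (show (expo j).1 - (expo i).1 = -1 by omega) (expo_diff j i (by omega))

variable {F K : Type*} [Field F] [Field K]

theorem mapSL_injective (f : F →+* K) :
    Function.Injective (Matrix.SpecialLinearGroup.map (n := Fin 3) f) :=
  fun a b h => Subtype.ext (Matrix.map_injective f.injective (congrArg Subtype.val h))

/-- A fixed element of `SL₃` is rational. -/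
theorem exists_of_fixed (ι : F →+* K) (σ : K →+* K) (hfix : ∀ t, σ t = t → ∃ t₀, ι t₀ = t) {g : SL(3, K)}
    (h : Matrix.SpecialLinearGroup.map σ g = g) : ∃ g₀, Matrix.SpecialLinearGroup.map ι g₀ = g := by
  have h' : ∀ i j, σ ((g : Matrix (Fin 3) (Fin 3) K) i j) = (g : Matrix (Fin 3) (Fin 3) K) i j := fun i j =>
    congrFun (congrFun (congrArg Subtype.val h) i) j
  choose m hm using fun i j => hfix _ (h' i j)
  have e : ι.mapMatrix (Matrix.of m) = (g : Matrix (Fin 3) (Fin 3) K) := Matrix.ext hm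
  refine ⟨⟨Matrix.of m, ι.injective ?_⟩, Subtype.ext e⟩
  rw [RingHom.map_det, e, g.2, map_one]

/-- The cyclic permutation matrix. -/
def cyc : SL(3, K) :=
  ⟨!![0, 1, 0; 0, 0, 1; 1, 0, 0], by simp [Matrix.det_fin_three]⟩

theorem coe_cyc : ((cyc : SL(3, K)) : Matrix (Fin 3) (Fin 3) K) = !![0, 1, 0; 0, 0, 1; 1, 0, 0] := rfl

/-- The frame of a generator of the cubic extension. -/
theorem exists_frame (σ : K →+* K) (hσ3 : ∀ z, σ (σ (σ z)) = z) {y : K} (hy : σ y ≠ y) :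
    ∃ M : SL(3, K), Matrix.SpecialLinearGroup.map σ M = cyc * M := by
  have h1 : σ (σ y) ≠ σ y := fun e => hy (σ.injective e)
  have h2 : σ (σ y) ≠ y := fun e => hy (by have := hσ3 y; rwa [e] at this)
  set δ := (σ y - y) * (σ (σ y) - y) * (σ (σ y) - σ y) with hδ
  have hδ0 : δ ≠ 0 := mul_ne_zero (mul_ne_zero (sub_ne_zero.2 hy) (sub_ne_zero.2 h2)) (sub_ne_zero.2 h1)
  have hσδ : σ δ = δ := by
    simp only [hδ, map_mul, map_sub, hσ3]; ring
  refine ⟨⟨!![δ⁻¹, y, y ^ 2; δ⁻¹, σ y, σ y ^ 2; δ⁻¹, σ (σ y), σ (σ y) ^ 2], ?_⟩, Subtype.ext ?_⟩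
  · rw [Matrix.det_fin_three]
    simp
    field_simp
    ring
  · show (!![δ⁻¹, y, y ^ 2; δ⁻¹, σ y, σ y ^ 2; δ⁻¹, σ (σ y), σ (σ y) ^ 2] : Matrix (Fin 3) (Fin 3) K).map σ =
      !![0, 1, 0; 0, 0, 1; 1, 0, 0] * !![δ⁻¹, y, y ^ 2; δ⁻¹, σ y, σ y ^ 2; δ⁻¹, σ (σ y), σ (σ y) ^ 2]
    ext i j
    fin_cases i <;> fin_cases j <;> simp [Matrix.mul_apply, Fin.sum_univ_three, hσδ, hσ3]

theorem map_diagSL_fixed_iff (σ : K →+* K) {M : SL(3, K)}
    (hM : Matrix.SpecialLinearGroup.map σ M = cyc * M) (a b : Kˣ) :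
    Matrix.SpecialLinearGroup.map σ (M⁻¹ * diagSL a b * M) = M⁻¹ * diagSL a b * M ↔
      σ a = b ∧ σ b = ((a * b)⁻¹ : Kˣ) ∧ σ ((a * b)⁻¹ : Kˣ) = a := by
  rw [map_mul, map_mul, map_inv, hM, mul_inv_rev,
    show M⁻¹ * cyc⁻¹ * Matrix.SpecialLinearGroup.map σ (diagSL a b) * (cyc * M) =
      M⁻¹ * (cyc⁻¹ * Matrix.SpecialLinearGroup.map σ (diagSL a b) * cyc) * M by group,
    mul_left_inj, mul_right_inj, mul_assoc, inv_mul_eq_iff_eq_mul]
  constructor
  · intro h
    have e := fun i j => congrFun (congrFun (congrArg Subtype.val h) i) j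
    have e1 := e 0 1
    have e2 := e 1 2
    have e3 := e 2 0
    simp [Matrix.mul_apply, Fin.sum_univ_three, coe_cyc, coe_diagSL] at e1 e2 e3
    simp [e1, e2, e3]
  · rintro ⟨e1, e2, e3⟩
    refine Subtype.ext ?_
    ext i j
    fin_cases i <;> fin_cases j <;>
      simp [Matrix.mul_apply, Fin.sum_univ_three, coe_cyc, coe_diagSL, e1] <;> simp_all

/-- The torus of order `q² + q + 1`, given a cubic extension with its Frobenius map. -/
theorem exists_torus_aux [Finite K] (ι : F →+* K) (σ : K →+* K) {q : ℕ} (hq : 3 ≤ q)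
    (hσ : ∀ z, σ z = z ^ q) (hσ3 : ∀ z, σ (σ (σ z)) = z) (hι : ∀ t, σ (ι t) = ι t)
    (hfix : ∀ t, σ t = t → ∃ t₀, ι t₀ = t) (hcard : Nat.card Kˣ = q ^ 3 - 1) {y : K} (hy : σ y ≠ y) :
    ∃ H : Subgroup ↥(chevG2.group F), IsCyclic ↥H ∧ Nat.card ↥H = q ^ 2 + q + 1 ∧
      Subgroup.centralizer (H : Set ↥(chevG2.group F)) = H := by
  obtain ⟨M, hM⟩ := exists_frame σ hσ3 hy
  set N := (powMonoidHom (q ^ 2 + q + 1) : Kˣ →* Kˣ).ker with hN
  have hNcard : Nat.card N = q ^ 2 + q + 1 := by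
    rw [hN, IsCyclic.card_powMonoidHom_ker, hcard]
    refine Nat.gcd_eq_right ⟨q - 1, ?_⟩
    obtain ⟨k, rfl⟩ : ∃ k, q = k + 1 := ⟨q - 1, by omega⟩
    simp only [Nat.add_sub_cancel]
    have : (k + 1) ^ 3 = ((k + 1) ^ 2 + (k + 1) + 1) * k + 1 := by ring
    omega
  -- the Frobenius on units
  have hσu : ∀ a : Kˣ, σ (a : K) = ((a ^ q : Kˣ) : K) := fun a => by rw [hσ, Units.val_pow_eq_pow_val]
  have hmem : ∀ a : Kˣ, a ∈ N ↔
      σ (a : K) = ((a ^ q : Kˣ) : K) ∧ σ ((a ^ q : Kˣ) : K) = ((a * a ^ q)⁻¹ : Kˣ) := by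
    intro a
    rw [hN, MonoidHom.mem_ker, powMonoidHom_apply, hσu, hσu, ← pow_mul, ← pow_succ', Units.val_inj,
      Units.val_inj, eq_inv_iff_mul_eq_one, ← pow_add]
    constructor
    · exact fun h => ⟨rfl, by rw [← h]; congr 1; ring⟩
    · exact fun h => by rw [← h.2]; congr 1; ring
  have hfixN : ∀ a : N, ∃ g₀, Matrix.SpecialLinearGroup.map ι g₀ = M⁻¹ * diagSL (a : Kˣ) ((a : Kˣ) ^ q) * M := by
    intro a
    refine exists_of_fixed ι σ hfix ((map_diagSL_fixed_iff σ hM _ _).2 ?_)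
    obtain ⟨h1, h2⟩ := (hmem a).1 a.2
    exact ⟨h1, h2, by rw [← h2, ← h1, hσ3]⟩
  choose s hs using hfixN
  have hdiag : ∀ a b : Kˣ, diagSL (a * b) ((a * b) ^ q) = diagSL a (a ^ q) * diagSL b (b ^ q) := by
    intro a b
    refine Subtype.ext ?_
    rw [Matrix.SpecialLinearGroup.coe_mul, coe_diagSL, coe_diagSL, coe_diagSL, Matrix.diagonal_mul_diagonal]
    congr 1
    ext i
    fin_cases i <;> simp [mul_pow]
    ring
  let f : N →* GL chevG2.Idx F :=
    MonoidHom.mk' (fun a => phi F (s a)) fun a b => by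
      rw [← map_mul]
      refine congrArg (phi F) (mapSL_injective ι ?_)
      rw [map_mul, hs, hs, hs, Subgroup.coe_mul, hdiag]
      group
  have hfG : ∀ a, f a ∈ chevG2.group F := fun a => phi_mem_group _
  let ψ : N →* ↥(chevG2.group F) := f.codRestrict _ hfG
  have hmap : ∀ a, mapG chevG2 ι (f a) = phi K (M⁻¹ * diagSL (a : Kˣ) ((a : Kˣ) ^ q) * M) := fun a => by
    rw [show f a = phi F (s a) from rfl, phi_map, hs]
  have hψ : Function.Injective ψ := by
    intro a b h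
    have e : diagSL (a : Kˣ) ((a : Kˣ) ^ q) = diagSL (b : Kˣ) ((b : Kˣ) ^ q) := by
      have h' := congrArg (fun z : ↥(chevG2.group F) => mapG chevG2 ι (z : GL chevG2.Idx F)) h
      simp only [ψ, MonoidHom.codRestrict_apply, hmap] at h'
      exact mul_left_cancel (mul_right_cancel (phi_injective h'))
    have e0 := congrFun (congrFun (congrArg Subtype.val e) 0) 0
    simp [coe_diagSL] at e0
    exact Subtype.ext (Units.ext e0)
  refine ⟨ψ.range, isCyclic_of_surjective ψ.rangeRestrict ψ.rangeRestrict_surjective,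
    (Nat.card_congr (MonoidHom.ofInjective hψ).toEquiv).symm.trans hNcard, le_antisymm ?_ ?_⟩
  · intro g hg
    obtain ⟨x, hx⟩ := IsCyclic.exists_ofOrder_eq_natCard (α := N)
    rw [hNcard, ← Subgroup.orderOf_coe] at hx
    have hc : (g : GL chevG2.Idx F) * f x = f x * (g : GL chevG2.Idx F) :=
      congrArg Subtype.val (Subgroup.mem_centralizer_iff.1 hg (ψ x) ⟨x, rfl⟩).symm
    set A := phi K M with hA
    set g' := A * mapG chevG2 ι (g : GL chevG2.Idx F) * A⁻¹ with hg'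
    have hg'G : g' ∈ chevG2.group K := by
      refine mul_mem (mul_mem (phi_mem_group M) ?_) (inv_mem (phi_mem_group M))
      exact mapG_group_le DataG2.good ι ⟨g, g.2, rfl⟩
    set h := phi K (diagSL (x : Kˣ) ((x : Kˣ) ^ q)) with hh
    have hmx : mapG chevG2 ι (f x) = A⁻¹ * h * A := by rw [hmap, map_mul, map_mul, map_inv]
    have hc' : g' * h = h * g' := by
      have e := congrArg (mapG chevG2 ι) hc
      rw [map_mul, map_mul, hmx] at e
      calc g' * h = A * (mapG chevG2 ι (g : GL chevG2.Idx F) * (A⁻¹ * h * A)) * A⁻¹ := by rw [hg']; group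
        _ = h * g' := by rw [e, hg']; group
    have hh' : h = torusHom chevG2 K ![(x : Kˣ) * (x : Kˣ) ^ q, (x : Kˣ) * (x : Kˣ) ^ q * (x : Kˣ) ^ q] :=
      phi_diag _ _
    set χ : ℕ → Kˣ := chi (D := chevG2) ![(x : Kˣ) * (x : Kˣ) ^ q, (x : Kˣ) * (x : Kˣ) ^ q * (x : Kˣ) ^ q] with hχ
    have hexp : ∀ k : Fin 12, χ k.val = (x : Kˣ) ^ ((expo k).1 * (q : ℤ) + (expo k).2) := by
      have hval : ∀ k : Fin 12, (expo k).1 = chevG2.cartan 0 k.val + 2 * chevG2.cartan 1 k.val ∧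
          (expo k).2 = chevG2.cartan 0 k.val + chevG2.cartan 1 k.val := by decide +kernel
      intro k
      obtain ⟨e1, e2⟩ := hval k
      rw [hχ, chi_G2, e1, e2]
      simp only [Matrix.cons_val_zero, Matrix.cons_val_one]
      rw [← pow_succ', ← pow_add, ← zpow_natCast, ← zpow_natCast, ← zpow_mul, ← zpow_mul, ← zpow_add]
      push_cast
      congr 1
      ring
    have hdvd : ∀ m n : ℤ, (x : Kˣ) ^ m = (x : Kˣ) ^ n ↔ ((q : ℤ) ^ 2 + q + 1) ∣ m - n := by
      intro m n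
      rw [zpow_eq_zpow_iff_modEq, hx, Int.modEq_iff_dvd, ← dvd_neg, neg_sub]
      push_cast
      rfl
    have hne : ∀ k < chevG2.nroots, χ k ≠ 1 := by
      intro k hk e
      rw [show k = (⟨k, hk⟩ : Fin 12).val from rfl, hexp, ← zpow_zero (x : Kˣ), hdvd, sub_zero] at e
      exact (expo_mod (by exact_mod_cast hq) _ ⟨0, by decide⟩).1 e
    have hinj : ∀ k < chevG2.nroots, ∀ m < chevG2.nroots, χ k = χ m → k = m := by
      intro k hk m hm e
      have e' : χ (⟨k, hk⟩ : Fin 12).val = χ (⟨m, hm⟩ : Fin 12).val := e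
      rw [hexp, hexp, hdvd] at e'
      exact congrArg Fin.val ((expo_mod (by exact_mod_cast hq) _ _).2 e')
    have hd := ChevTorus.mem_diagonal_of_commute DataG2.good rootsG2
      (hh' ▸ (torusHom_range (F := K) DataG2.good).le ⟨_, rfl⟩ : h ∈ chevG2.diagonalSubgroup K)
      (χ := χ) (by rw [hh']; rfl) hne hinj hg'G hc'
    obtain ⟨c, hc0⟩ := (torusHom_range (F := K) DataG2.good).ge hd
    rw [diagSL_of_torus c] at hc0
    obtain ⟨a, b, hab⟩ : ∃ a b, g' = phi K (diagSL a b) := ⟨_, _, hc0.symm⟩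
    have hgK : mapG chevG2 ι (g : GL chevG2.Idx F) = phi K (M⁻¹ * diagSL a b * M) := by
      rw [map_mul, map_mul, map_inv, ← hab, hg', hA]; group
    have hfixed : Matrix.SpecialLinearGroup.map σ (M⁻¹ * diagSL a b * M) = M⁻¹ * diagSL a b * M := by
      refine phi_injective ?_
      rw [← phi_map, ← hgK, mapG_comp_fixed ι σ hι]
    obtain ⟨h1, h2, -⟩ := (map_diagSL_fixed_iff σ hM a b).1 hfixed
    obtain rfl : b = a ^ q := Units.ext (h1.symm.trans (hσu a))
    refine ⟨⟨a, (hmem a).2 ⟨hσu a, h2⟩⟩, Subtype.ext (mapG_injective ι ?_)⟩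
    rw [hgK]
    exact hmap _
  · rintro _ ⟨a, rfl⟩
    refine Subgroup.mem_centralizer_iff.2 ?_
    rintro _ ⟨b, rfl⟩
    rw [← map_mul, ← map_mul, mul_comm]

variable [Fintype F]

/-- `G₂(q)` has a cyclic self-centralising subgroup of order `q² + q + 1`. -/
theorem exists_torus (q : ℕ) (hF : Fintype.card F = q) (hq : 3 ≤ q) :
    ∃ H : Subgroup ↥(chevG2.group F), IsCyclic ↥H ∧ Nat.card ↥H = q ^ 2 + q + 1 ∧
      Subgroup.centralizer (H : Set ↥(chevG2.group F)) = H := by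
  obtain ⟨p, hp⟩ := CharP.exists F
  have : Fact p.Prime := ⟨CharP.char_is_prime F p⟩
  have hF' : Nat.card F = q := by rw [Nat.card_eq_fintype_card, hF]
  let σ : FiniteField.Extension F p 3 →+* FiniteField.Extension F p 3 :=
    (FiniteField.Extension.frob F p 3).toAlgHom.toRingHom
  have hσ : ∀ z, σ z = z ^ q := fun z => by
    show FiniteField.Extension.frob F p 3 z = _
    rw [FiniteField.Extension.frob_apply, hF']
  have hKcard : Nat.card (FiniteField.Extension F p 3) = q ^ 3 := by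
    rw [FiniteField.natCard_extension, hF']
  have hι : ∀ t, σ (algebraMap F _ t) = algebraMap F _ t := fun t =>
    (FiniteField.Extension.frob F p 3).commutes t
  have hfix : ∀ t, σ t = t → ∃ t₀, algebraMap F _ t₀ = t := by
    intro t ht
    refine Set.mem_range.1 ((IsGalois.mem_range_algebraMap_iff_fixed t).2 fun g => ?_)
    obtain ⟨i, -, rfl⟩ := FiniteField.Extension.exists_frob_pow_eq F p 3 g
    rw [FiniteField.Extension.frob_iterate_apply, hF']
    clear * - ht hσ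
    induction i with
    | zero => simp
    | succ i ih => rw [pow_succ, pow_mul, ih, ← hσ, ht]
  obtain ⟨y, hy⟩ : ∃ y, σ y ≠ y := by
    by_contra hall
    push Not at hall
    have hsur : Function.Surjective (algebraMap F (FiniteField.Extension F p 3)) := fun t => hfix t (hall t)
    have := Nat.card_le_card_of_surjective _ hsur
    rw [hKcard, hF'] at this
    nlinarith [mul_le_mul' hq hq]
  refine exists_torus_aux (algebraMap F _) σ hq hσ (fun z => ?_) hι hfix ?_ hy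
  · rw [hσ, hσ, hσ, ← pow_mul, ← pow_mul, show q * (q * q) = q ^ 3 by ring, ← hKcard]
    have := Fintype.ofFinite (FiniteField.Extension F p 3)
    rw [Nat.card_eq_fintype_card, FiniteField.pow_card]
  · rw [Nat.card_units, hKcard]

end Cfsg.Agent.ChevG2SL3
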